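import Groth.Agent.CurvLib.Divisor
import Groth.Agent.TwistLib.Basic
import Groth.Agent.TwistLib.PullGen
import Groth.Agent.AssPointLib.Basic

/-!
# Ideal sheaves of effective Cartier divisors
-/

set_option autoImplicit false
set_option linter.style.haveILetI false
universe u

open CategoryTheory CategoryTheory.Limits AlgebraicGeometry TopologicalSpace Opposite
open DevissLib

noncomputable section

namespace IntMultLib

variable {X : Scheme.{u}} (I : X.IdealSheafData)

theorem toSubscheme_app_eq_zero_iff (U : X.affineOpens) (a : Γ(X, U)) :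
    (ClSub.toSubscheme I).app U.1 a = 0 ↔ a ∈ I.ideal U := by
  rw [← I.ker_subschemeι_app U]
  exact Iff.rfl

theorem idealModι_app_injective (V : X.Opens) : Function.Injective ((ClSub.idealModι I).app V) := by
  haveI : Mono (ClSub.idealModι I) := inferInstanceAs (Mono (kernel.ι (ClSub.toSubscheme I)))
  exact QCohLib.app_injective_of_mono _ V

theorem exists_section (U : X.affineOpens) {a : Γ(X, U)} (ha : a ∈ I.ideal U) :
    ∃ σ : Γ(ClSub.idealMod I, U.1), (ClSub.idealModι I).app U.1 σ = a :=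
  QCohLib.exists_of_app_eq_zero (S := CurvLib.idealSeq I) (CurvLib.idealSeq_shortExact I).exact
    (CurvLib.idealSeq_shortExact I).mono_f (show Γ(Coh.structureModule X, U.1) from a)
    ((toSubscheme_app_eq_zero_iff I U a).mpr ha)

theorem idealModι_smul (V : X.Opens) (r : Γ(X, V)) (t : Γ(ClSub.idealMod I, V)) :
    (show Γ(X, V) from (ClSub.idealModι I).app V (r • t)) = r * (show Γ(X, V) from (ClSub.idealModι I).app V t) :=
  QCohLib.app_smul (ClSub.idealModι I) V r t

theorem isInvertible_idealMod (hI : BlowUp.IsEffCartierIdeal I) : PicF.IsInvertible (ClSub.idealMod I) := by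
  choose U hxU a ha hIU using hI
  have hmem : ∀ x, a x ∈ I.ideal (U x) := fun x => hIU x ▸ Ideal.mem_span_singleton_self _
  choose σ hσ using fun x => exists_section I (U x) (hmem x)
  refine TwistLib.isInvertible_of_genOn (fun x => (U x).1) (fun x => ⟨x, hxU x⟩) σ fun x => ?_
  refine TwistLib.genOn_of_genAt fun y hy => ?_
  have hU := (U x).2
  have hnzd : X.presheaf.germ (U x).1 y hy (a x) ∈ nonZeroDivisors (X.presheaf.stalk y) := by
    letI := TopCat.Presheaf.algebra_section_stalk X.presheaf ⟨y, hy⟩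
    haveI := hU.isLocalization_stalk ⟨y, hy⟩
    exact IsLocalization.map_nonZeroDivisors_le (hU.primeIdealOf ⟨y, hy⟩).asIdeal.primeCompl _
      (Submonoid.mem_map_of_mem (algebraMap Γ(X, (U x).1) (X.presheaf.stalk y)).toMonoidHom (ha x))
  refine ⟨fun c c' h => ?_, fun b => ?_⟩
  · rw [← sub_eq_zero]
    have h0 : (c - c') • gm (ClSub.idealMod I) y hy (σ x) = 0 := (sub_smul _ _ _).trans (sub_eq_zero.mpr h)
    obtain ⟨W, hyW, d, hd⟩ := TopCat.Presheaf.exists_germ_eq X.presheaf (x := y) (c - c')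
    have hWU : W ⊓ (U x).1 ≤ (U x).1 := inf_le_right
    have hyI : y ∈ W ⊓ (U x).1 := ⟨hyW, hy⟩
    let d' : Γ(X, W ⊓ (U x).1) := X.presheaf.map (homOfLE inf_le_left).op d
    let σ' : Γ(ClSub.idealMod I, W ⊓ (U x).1) := (ClSub.idealMod I).presheaf.map (homOfLE hWU).op (σ x)
    have hd' : X.presheaf.germ (W ⊓ (U x).1) y hyI d' = c - c' :=
      (TopCat.Presheaf.germ_res_apply X.presheaf _ y hyI d).trans hd
    have h1 : gm (ClSub.idealMod I) y hyI (d' • σ') = gm (ClSub.idealMod I) y hyI 0 :=
      (gm_smul _ y hyI d' σ').trans ((congrArg₂ (· • ·) hd' (gm_map _ hWU y hyI (σ x))).trans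
        (h0.trans (gm_zero _ y hyI).symm))
    obtain ⟨O, hyO, i₁, i₂, hO⟩ := TopCat.Presheaf.germ_eq (ClSub.idealMod I).presheaf y _ _ _ _ h1
    have h2 := congrArg (fun s => (ClSub.idealModι I).app O s) hO
    simp only [QCohLib.app_map, map_zero] at h2
    have h3 : X.presheaf.map i₁.op (d' * X.presheaf.map (homOfLE hWU).op (a x)) = 0 := by
      refine Eq.trans (congrArg (X.presheaf.map i₁.op) ?_) h2
      refine Eq.trans ?_ (idealModι_smul I _ d' σ').symm
      congr 1
      exact ((QCohLib.app_map (ClSub.idealModι I) (homOfLE hWU) (σ x)).trans (congrArg _ (hσ x))).symm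
    have h4 := congrArg (X.presheaf.germ O y hyO) h3
    rw [TopCat.Presheaf.germ_res_apply, map_mul, map_zero, hd', TopCat.Presheaf.germ_res_apply] at h4
    exact (mem_nonZeroDivisors_iff_right.mp hnzd) _ h4
  · obtain ⟨W, hyW, t, rfl⟩ := exists_gm_eq (ClSub.idealMod I) y b
    obtain ⟨g, hgW, hyg⟩ := QCohLib.exists_basicOpen_nhd hU hyW hy
    let V : X.affineOpens := X.affineBasicOpen g
    let t' : Γ(ClSub.idealMod I, V.1) := (ClSub.idealMod I).presheaf.map (homOfLE hgW).op t
    have ht' : (show Γ(X, V.1) from (ClSub.idealModι I).app V.1 t') ∈ I.ideal V :=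
      (toSubscheme_app_eq_zero_iff I V _).mp
        (ConcreteCategory.congr_hom (congrArg (fun φ : ClSub.idealMod I ⟶ ClSub.quotMod I => φ.app V.1)
          (kernel.condition (ClSub.toSubscheme I))) t')
    have hVU : V.1 ≤ (U x).1 := X.basicOpen_le g
    rw [← I.map_ideal (U := V) (V := U x) hVU, hIU x, Ideal.map_span, Set.image_singleton] at ht'
    obtain ⟨c, hc⟩ := Ideal.mem_span_singleton'.mp ht'
    have hyV : y ∈ V.1 := hyg
    have he : c • (ClSub.idealMod I).presheaf.map (homOfLE hVU).op (σ x) = t' := by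
      refine idealModι_app_injective I V.1 ((idealModι_smul I _ c _).trans (Eq.trans ?_ hc))
      congr 1
      exact (QCohLib.app_map (ClSub.idealModι I) (homOfLE hVU) (σ x)).trans (congrArg _ (hσ x))
    refine ⟨X.presheaf.germ V.1 y hyV c, ?_⟩
    exact (congrArg (X.presheaf.germ V.1 y hyV c • ·) (gm_map _ hVU y hyV (σ x)).symm).trans
      ((gm_smul _ y hyV c _).symm.trans ((congrArg (gm (ClSub.idealMod I) y hyV) he).trans (gm_map _ hgW y hyV t)))

theorem isEffCartier_of_isInvertible (h : PicF.IsInvertible (ClSub.idealMod I)) : BlowUp.IsEffCartierIdeal I := by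
  intro x
  obtain ⟨W, e, hxW, he⟩ := TwistLib.exists_genOn h x
  obtain ⟨V, hV, hxV, hVW⟩ := Opens.isBasis_iff_nbhd.mp X.isBasis_affineOpens hxW
  have he' := he.res hVW
  let e' : Γ(ClSub.idealMod I, V) := AmpleLib.res _ hVW e
  let a : Γ(X, V) := (ClSub.idealModι I).app V e'
  have hval : ∀ r : Γ(X, V), (show Γ(X, V) from (ClSub.idealModι I).app V (r • e')) = r * a :=
    fun r => idealModι_smul I V r e'
  have hb := he' V le_rfl
  simp only [AmpleLib.res_refl] at hb
  refine ⟨⟨V, hV⟩, hxV, a, mem_nonZeroDivisors_iff_right.mpr fun r hr => hb.1 ?_, le_antisymm (fun t ht => ?_) ?_⟩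
  · refine idealModι_app_injective I V ?_
    refine ((hval r).trans hr).trans ?_
    refine Eq.trans (map_zero ((ClSub.idealModι I).app V).hom).symm (congrArg _ ?_)
    exact (zero_smul _ _).symm
  · obtain ⟨τ, hτ⟩ := exists_section I ⟨V, hV⟩ ht
    obtain ⟨r, hr⟩ := hb.2 τ
    exact Ideal.mem_span_singleton'.mpr ⟨r, (hval r).symm.trans ((congrArg _ hr).trans hτ)⟩
  · rw [Ideal.span_le, Set.singleton_subset_iff]
    exact (toSubscheme_app_eq_zero_iff I ⟨V, hV⟩ a).mp
      (ConcreteCategory.congr_hom (congrArg (fun φ : ClSub.idealMod I ⟶ ClSub.quotMod I => φ.app V)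
        (kernel.condition (ClSub.toSubscheme I))) e')

end IntMultLib

end
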