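import Groth.Agent.IntMultLib.Main
import Groth.Agent.SerreVanLib.TwTensor
import Groth.Agent.KFlatLib.QCohPull
import Groth.Agent.RpushLib.Finite
import Groth.Agent.AmpleDevLib.Components
import Groth.Agent.S7640

/-!
# Additive functions and components
-/

set_option autoImplicit false
set_option linter.style.haveILetI false
universe u

open CategoryTheory CategoryTheory.Limits AlgebraicGeometry TopologicalSpace Opposite
open DevissLib HilbPolyLib

noncomputable section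

namespace IntMultLib

variable {X : Scheme.{u}}

theorem isCoh_tensor_freeMod (M : X.Modules) (hM : Coh.IsCoh M) [IsLocallyNoetherian X] :
    ∀ n : ℕ, Coh.IsCoh (CohB1.tensorMod M (FlatMod.freeMod X n))
  | 0 => isCoh_of_isZero (Functor.map_isZero ((DCoh.tensorBi (X := X)).obj M) (by
      rw [IsZero.iff_id_eq_zero]
      exact Sigma.hom_ext _ _ fun i => i.elim0))
  | n + 1 => by
    haveI : Limits.PreservesBinaryBiproduct (Coh.structureModule X) (FlatMod.freeMod X n)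
        ((DCoh.tensorBi (X := X)).obj M) :=
      preservesBinaryBiproduct_of_preservesBinaryProduct _
    refine QCohLib.isCoh_of_iso ?_ (isCoh_biprod hM (isCoh_tensor_freeMod M hM n))
    exact biprod.mapIso (KFlatLib.tensUnitIso M).symm (Iso.refl _) ≪≫
      biprod.mapIso (KFlatLib.tensSwap (Coh.structureModule X) M).symm (Iso.refl _) ≪≫
      (((DCoh.tensorBi (X := X)).obj M).mapBiprod _ _).symm ≪≫
      ((DCoh.tensorBi (X := X)).obj M).mapIso (CurvLib.freeModSucc X n).symm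

theorem isCoh_tensor_locFree [IsLocallyNoetherian X] {n : ℕ} {E M : X.Modules}
    (hE : FlatMod.IsFinLocFreeOfRank n E) (hM : Coh.IsCoh M) : Coh.IsCoh (CohB1.tensorMod M E) := by
  choose U hU e using hE
  have hc : ⨆ x, U x = ⊤ := eq_top_iff.mpr fun x _ => Opens.mem_iSup.mpr ⟨x, hU x⟩
  have hMU : ∀ x, Coh.IsCoh (M.restrict (U x).ι) := fun x => by
    refine ⟨?_, RpushLib.isFT_restrict hM.2 (U x)⟩
    haveI := hM.1
    infer_instance
  have i : ∀ x, (CohB1.tensorMod M E).restrict (U x).ι ≅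
      CohB1.tensorMod (M.restrict (U x).ι) (FlatMod.freeMod _ n) := fun x =>
    let φ := fun N : X.Modules => (Scheme.Modules.restrictFunctorIsoPullback (U x).ι).app N
    φ _ ≪≫ @asIso _ _ _ _ (KFlatLib.pullθ (U x).ι M E) (KFlatLib.isIso_pullθ _ _ _) ≪≫
      congrLeft (φ M).symm _ ≪≫ congrRight _ ((φ E).symm ≪≫ (e x).some)
  refine ⟨QCohLib.isQCoh_of_cover _ U hc fun x => ?_, QCohLib.isFT_of_cover _ U hc fun x =>
    QCohLib.isFT_of_iso (i x).symm (isCoh_tensor_freeMod _ (hMU x) n).2⟩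
  haveI := (isCoh_tensor_freeMod _ (hMU x) n).1
  exact QCohLib.isQCoh_of_iso (i x).symm

variable {k : Type u} [Field k] [X.Over (Spec (CommRingCat.of k))]
  [IsProper (X ↘ Spec (CommRingCat.of k))]

include k in
/-- An additive function vanishing below dimension `d` is the sum over the `d`-dimensional points. -/
theorem additive_eq_sum' {A : Type*} [AddCommGroup A] (Φ : X.Modules → A)
    (hiso : ∀ M N : X.Modules, (M ≅ N) → Φ M = Φ N)
    (hadd : ∀ S : ShortComplex X.Modules, S.ShortExact → Coh.IsCoh S.X₁ → Coh.IsCoh S.X₂ →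
      Coh.IsCoh S.X₃ → Φ S.X₂ = Φ S.X₁ + Φ S.X₃)
    {d : ℕ} (hlow : ∀ M : X.Modules, Coh.IsCoh M →
      topologicalKrullDim (CohB1.support M) < (d : ℕ) → Φ M = 0)
    {Y : Set X} (hY : IsClosed Y) (hne : Y.Nonempty) (hd : topologicalKrullDim Y ≤ (d : ℕ))
    (M : X.Modules) (hM : Coh.IsCoh M) (hMY : CohB1.support M ⊆ Y) :
    ∃ T : Finset X, (∀ ξ, ξ ∈ T ↔ ξ ∈ Y ∧ topologicalKrullDim (closure ({ξ} : Set X)) = (d : WithBot ℕ∞)) ∧
      (∀ ξ ∈ T, len M ξ ≠ ⊤) ∧ Φ M = ∑ ξ ∈ T, (len M ξ).toNat • Φ (ClSub.quotMod (ptIdeal ξ)) := by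
  haveI := CurvLib.isNoetherian k (X := X)
  classical
  let T := (finite_dim_points hY hd).toFinset
  have hT : ∀ ξ, ξ ∈ T ↔ ξ ∈ Y ∧ topologicalKrullDim (closure ({ξ} : Set X)) = (d : WithBot ℕ∞) :=
    fun ξ => Set.Finite.mem_toFinset _
  refine ⟨T, hT, ?_⟩
  let Ψ : X.Modules → A := fun N => Φ N - ∑ ξ ∈ T, (len N ξ).toNat • Φ (ClSub.quotMod (ptIdeal ξ))
  let P : X.Modules → Prop := fun N => (∀ ξ ∈ T, len N ξ ≠ ⊤) ∧ Ψ N = 0
  have hP : ∀ M N : X.Modules, Nonempty (M ≅ N) → P M → P N := fun M N ⟨e⟩ ⟨h1, h2⟩ => by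
    refine ⟨fun ξ hξ => len_congr e ξ ▸ h1 ξ hξ, ?_⟩
    simp only [Ψ] at h2 ⊢
    simpa only [← hiso M N e, ← len_congr e] using h2
  suffices P M from ⟨this.1, sub_eq_zero.mp this.2⟩
  refine devissage P hP Y (fun S hS h₁ h₂ h₃ _ => ?_) hne (fun η hη _ => ?_) hY M hM hMY
  · have hlen := fun ξ => len_add hS ξ
    have key : (∀ ξ ∈ T, len S.X₁ ξ ≠ ⊤) → (∀ ξ ∈ T, len S.X₃ ξ ≠ ⊤) → Ψ S.X₂ = Ψ S.X₁ + Ψ S.X₃ := by
      intro a c
      simp only [Ψ]
      rw [hadd S hS h₁ h₂ h₃, Finset.sum_congr rfl (g := fun ξ =>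
        (len S.X₁ ξ).toNat • Φ (ClSub.quotMod (ptIdeal ξ)) +
        (len S.X₃ ξ).toNat • Φ (ClSub.quotMod (ptIdeal ξ))) fun ξ hξ => by
          rw [hlen ξ, ENat.toNat_add (a ξ hξ) (c ξ hξ), add_smul],
        Finset.sum_add_distrib]
      abel
    refine ⟨fun ⟨a, a'⟩ ⟨b, b'⟩ => ?_, fun ⟨a, a'⟩ ⟨c, c'⟩ => ⟨fun ξ hξ => ?_, ?_⟩,
      fun ⟨b, b'⟩ ⟨c, c'⟩ => ?_⟩
    · have f3 : ∀ ξ ∈ T, len S.X₃ ξ ≠ ⊤ := fun ξ hξ =>
        ne_top_of_le_ne_top (b ξ hξ) (hlen ξ ▸ le_add_self)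
      exact ⟨f3, by simpa [b', a'] using (key a f3).symm⟩
    · rw [hlen ξ]
      exact WithTop.add_ne_top.mpr ⟨a ξ hξ, c ξ hξ⟩
    · rw [key a c, a', c', add_zero]
    · have f1 : ∀ ξ ∈ T, len S.X₁ ξ ≠ ⊤ := fun ξ hξ =>
        ne_top_of_le_ne_top (b ξ hξ) (hlen ξ ▸ le_self_add)
      exact ⟨f1, by simpa [b', c'] using (key f1 c).symm⟩
  · obtain ⟨hG, hGs, he⟩ := generator η
    refine ⟨_, hG, hGs, he, ?_⟩
    have h0 : ∀ ξ ∈ T, ξ ≠ η → len (ClSub.quotMod (ptIdeal η)) ξ = 0 := fun ξ hξ hne' => by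
      refine len_eq_zero fun h => hne' ?_
      rw [hGs] at h
      exact (eq_of_specializes_of_dim hY hd ((hT ξ).mp hξ).2 hη (specializes_iff_mem_closure.mpr h)).symm
    refine ⟨fun ξ hξ => ?_, ?_⟩
    · by_cases h : ξ = η
      · subst h; rw [len_generator]; exact ENat.one_ne_top
      · rw [h0 ξ hξ h]; exact ENat.zero_ne_top
    · by_cases hηT : η ∈ T
      · simp only [Ψ]
        rw [Finset.sum_eq_single η (fun ξ hξ hne' => by rw [h0 ξ hξ hne']; simp) (fun h => absurd hηT h),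
          len_generator]
        simp
      · simp only [Ψ]
        rw [Finset.sum_eq_zero fun ξ hξ => by rw [h0 ξ hξ (fun h => hηT (h ▸ hξ))]; simp, sub_zero]
        refine hlow _ hG ?_
        rw [hGs]
        exact lt_of_le_of_ne (dim_closure_le hY hη hd) fun h => hηT ((hT η).mpr ⟨hη, h⟩)

include k in
/-- An additive function vanishing below dimension `d` is the sum over the `d`-dimensional points. -/
theorem additive_eq_sum {A : Type*} [AddCommGroup A] (Φ : X.Modules → A)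
    (hiso : ∀ M N : X.Modules, (M ≅ N) → Φ M = Φ N)
    (hadd : ∀ S : ShortComplex X.Modules, S.ShortExact → Coh.IsCoh S.X₁ → Coh.IsCoh S.X₂ →
      Coh.IsCoh S.X₃ → Φ S.X₂ = Φ S.X₁ + Φ S.X₃)
    {d : ℕ} (hlow : ∀ M : X.Modules, Coh.IsCoh M →
      topologicalKrullDim (CohB1.support M) < (d : ℕ) → Φ M = 0)
    {Y : Set X} (hY : IsClosed Y) (hne : Y.Nonempty) (hd : topologicalKrullDim Y ≤ (d : ℕ))
    (M : X.Modules) (hM : Coh.IsCoh M) (hMY : CohB1.support M ⊆ Y) :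
    ∃ T : Finset X, (∀ ξ, ξ ∈ T ↔ ξ ∈ Y ∧ topologicalKrullDim (closure ({ξ} : Set X)) = (d : WithBot ℕ∞)) ∧
      Φ M = ∑ ξ ∈ T, (len M ξ).toNat • Φ (ClSub.quotMod (ptIdeal ξ)) := by
  obtain ⟨T, hT, -, h⟩ := additive_eq_sum' (k := k) Φ hiso hadd hlow hY hne hd M hM hMY
  exact ⟨T, hT, h⟩

end IntMultLib

end

noncomputable section

namespace IntMultLib

/-- The degree on a closed subscheme, computed on the ambient scheme. -/
theorem euler_quotMod_tensor (k : Type u) [Field k] {X : Scheme.{u}} [X.Over (Spec (CommRingCat.of k))]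
    [IsProper (X ↘ Spec (CommRingCat.of k))] {n : ℕ} {E : X.Modules}
    (hE : FlatMod.IsFinLocFreeOfRank n E) (J : X.IdealSheafData) :
    Curv2.euler k X (CohB1.tensorMod (ClSub.quotMod J) E) - n * Curv2.euler k X (ClSub.quotMod J) =
      @Curv2.deg k _ J.subscheme ⟨J.subschemeι ≫ (X ↘ (Spec (CommRingCat.of k)))⟩
        ((Scheme.Modules.pullback J.subschemeι).obj E) n := by
  letI : J.subscheme.Over (Spec (CommRingCat.of k)) := ⟨J.subschemeι ≫ (X ↘ (Spec (CommRingCat.of k)))⟩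
  have hE0 : FlatMod.IsFinLocFree E := CurveVBLib.isFinLocFree_of_rank hE
  haveI := (CurvLib.isCoh_of_locFree (Groth.Agent.S7640.isFinLocFreeOfRank_pb J.subschemeι hE)).1
  haveI := (DevissLib.isCoh_structureModule J.subscheme).1
  have h1 := (PushLinLib.euler_push k J.subschemeι rfl ((Scheme.Modules.pullback J.subschemeι).obj E)).2
  have h2 := (PushLinLib.euler_push k J.subschemeι rfl (Coh.structureModule J.subscheme)).2
  let pr := @asIso _ _ _ _ (ProjFormLib.projApp J.subschemeι E (Coh.structureModule J.subscheme))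
    (ProjFormLib.isIso_projApp J.subschemeι hE0 _)
  have h3 : Curv2.euler k X (CohB1.tensorMod (ClSub.quotMod J) E) =
      Curv2.euler k X ((Coh.push J.subschemeι).obj ((Scheme.Modules.pullback J.subschemeι).obj E)) :=
    CurvLib.euler_congr (HilbPolyLib.swapIso _ _ ≪≫ pr ≪≫ (Coh.push J.subschemeι).mapIso
      (HilbPolyLib.swapIso _ _ ≪≫ HilbPolyLib.unitLeft _))
  simp only [Curv2.deg, h3, ← h1, h2]

end IntMultLib

end
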