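import Groth.Agent.CurvLib.EulerTensor
import Mathlib.AlgebraicGeometry.Morphisms.Finite
import Mathlib.AlgebraicGeometry.Morphisms.QuasiFinite
import Mathlib.AlgebraicGeometry.Artinian

/-!
# Small facts on dimension
-/

set_option autoImplicit false
set_option linter.style.haveILetI false
universe u

open CategoryTheory AlgebraicGeometry DevissLib

namespace IntMultLib

theorem support_structureModule' {X : Scheme.{u}} : CohB1.support (Coh.structureModule X) = Set.univ :=
  Set.eq_univ_of_forall fun x h => by
    have hs : Subsingleton ((St x).obj (Coh.structureModule X)) := h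
    haveI : Subsingleton (X.presheaf.stalk x) := (CurvLib.stalkStructureEquiv x).toEquiv.symm.subsingleton
    exact not_subsingleton (X.presheaf.stalk x) inferInstance

theorem dim_le_zero_of_isFinite (k : Type u) [Field k] {X : Scheme.{u}} [X.Over (Spec (CommRingCat.of k))]
    [IsFinite (X ↘ Spec (CommRingCat.of k))] : topologicalKrullDim X ≤ 0 := by
  haveI : IsLocallyArtinian (Spec (CommRingCat.of k)) :=
    Scheme.isLocallyArtinianScheme_Spec.mpr inferInstance
  haveI : IsLocallyArtinian X := IsLocallyArtinian.of_locallyQuasiFinite (X ↘ Spec (CommRingCat.of k))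
  haveI : DiscreteTopology X := inferInstance
  exact topologicalKrullDim_zero_of_discreteTopology _

end IntMultLib
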