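import Groth.Agent.IntMultLib.Main
import Groth.Agent.HilbPolyLib.Pos
import Mathlib.Algebra.Group.ForwardDiff

/-!
# Powers of a single module
-/

set_option autoImplicit false
set_option linter.style.haveILetI false
universe u

open CategoryTheory CategoryTheory.Limits AlgebraicGeometry
open DevissLib HilbPolyLib

noncomputable section

namespace IntMultLib

variable {X : Scheme.{u}}

/-- `L^(a+b) ≅ L^a ⊗ L^b`. -/
theorem nonempty_tensorPow_add (L : X.Modules) (a : ℕ) : ∀ b : ℕ,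
    Nonempty (CohB1.tensorPow L (a + b) ≅ CohB1.tensorMod (CohB1.tensorPow L a) (CohB1.tensorPow L b))
  | 0 => ⟨(unitLeft _).symm ≪≫ swapIso _ _⟩
  | b + 1 => by
    obtain ⟨e⟩ := nonempty_tensorPow_add L a b
    exact ⟨congrLeft e L ≪≫ assocIso _ _ _⟩

theorem nonempty_tensorPows_const (L : X.Modules) : ∀ (r : ℕ) (n : Fin r → ℕ),
    Nonempty (Curv2.tensorPows (Coh.structureModule X) r (fun _ => L) n ≅ CohB1.tensorPow L (∑ i, n i))
  | 0, _ => ⟨eqToIso (by simp [Curv2.tensorPows, CohB1.tensorPow])⟩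
  | r + 1, n => by
    obtain ⟨e⟩ := nonempty_tensorPows_const L r fun i => n i.castSucc
    obtain ⟨e'⟩ := nonempty_tensorPow_add L (∑ i : Fin r, n i.castSucc) (n (Fin.last r))
    exact ⟨congrLeft e _ ≪≫ e'.symm ≪≫ eqToIso (by rw [Fin.sum_univ_castSucc])⟩

theorem cubeSum_sum : ∀ (d : ℕ) (g : ℚ → ℚ),
    cubeSum (fun n : Fin d → ℕ => g ((∑ i, n i : ℕ) : ℚ)) = (-1 : ℚ) ^ d * (fwdDiff (1 : ℚ))^[d] g 0
  | 0, g => by simp [cubeSum, bSgn]
  | d + 1, g => by
    rw [cubeSum_cons]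
    have e0 : (fun n : Fin d → ℕ => g ((∑ i, (Fin.cons 0 n : Fin (d + 1) → ℕ) i : ℕ) : ℚ)) =
        fun n => g ((∑ i, n i : ℕ) : ℚ) := by
      funext n; simp [Fin.sum_univ_succ]
    have e1 : (fun n : Fin d → ℕ => g ((∑ i, (Fin.cons 1 n : Fin (d + 1) → ℕ) i : ℕ) : ℚ)) =
        fun n => (fun x => g (x + 1)) ((∑ i, n i : ℕ) : ℚ) := by
      funext n; simp [Fin.sum_univ_succ, add_comm]
    rw [e0, e1, cubeSum_sum d g, cubeSum_sum d fun x => g (x + 1), fwdDiff_iter_comp_add,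
      Function.iterate_succ_apply', fwdDiff, zero_add, pow_succ]
    ring

theorem fwdDiff_top {d : ℕ} {p : Polynomial ℚ} (hp : p.natDegree ≤ d) :
    (fwdDiff (1 : ℚ))^[d] p.eval 0 = (d.factorial : ℚ) * p.coeff d := by
  rcases hp.lt_or_eq with h | h
  · rw [Polynomial.fwdDiff_iter_eq_zero_of_degree_lt h, Polynomial.coeff_eq_zero_of_natDegree_lt h]
    simp
  · subst h
    rw [Polynomial.fwdDiff_iter_degree_eq_factorial]
    rw [Pi.smul_apply, Pi.natCast_apply, smul_eq_mul, mul_comm]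
    rfl

theorem abs_eval_sub_top {d : ℕ} {p : Polynomial ℚ} (hp : p.natDegree ≤ d) (n : ℕ) :
    |p.eval (n : ℚ) - p.coeff d * (n : ℚ) ^ d| ≤
      (∑ i ∈ Finset.range d, |p.coeff i|) * ((n : ℚ) + 1) ^ (d - 1) := by
  rw [Polynomial.eval_eq_sum_range' (Nat.lt_succ_of_le hp), Finset.sum_range_succ, add_sub_cancel_right,
    Finset.sum_mul]
  refine (Finset.abs_sum_le_sum_abs _ _).trans (Finset.sum_le_sum fun i hi => ?_)
  rw [abs_mul, abs_of_nonneg (show (0 : ℚ) ≤ (n : ℚ) ^ i by positivity)]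
  refine mul_le_mul_of_nonneg_left ?_ (abs_nonneg _)
  exact (pow_le_pow_left₀ (Nat.cast_nonneg _) (by linarith) i).trans
    (pow_le_pow_right₀ (by linarith [(Nat.cast_nonneg n : (0:ℚ) ≤ n)]) (by simp only [Finset.mem_range] at hi; omega))

theorem support_structureModule : CohB1.support (Coh.structureModule X) = Set.univ :=
  Set.eq_univ_of_forall fun x h => by
    have hs : Subsingleton ((St x).obj (Coh.structureModule X)) := h
    haveI : Subsingleton (X.presheaf.stalk x) := (CurvLib.stalkStructureEquiv x).toEquiv.symm.subsingleton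
    exact not_subsingleton (X.presheaf.stalk x) inferInstance

end IntMultLib

end
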