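import Groth.Agent.IntMultLib.Components
import Groth.Agent.IntMultLib.Cartier
import Groth.Agent.KFlatLib.PerfectPull
import Groth.Agent.SerreVanLib.TwTensor
import Groth.Agent.FibDimLib.Formula

/-!
# Positivity of intersection numbers of ample modules
-/

set_option autoImplicit false
set_option linter.style.haveILetI false
universe u

open CategoryTheory CategoryTheory.Limits AlgebraicGeometry TopologicalSpace
open DevissLib HilbPolyLib

noncomputable section

namespace IntMultLib

theorem isInvertible_of_inverse {X : Scheme.{u}} {L M : X.Modules} (hL : PicF.IsInvertible L)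
    (e : CohB1.tensorMod L M ≅ Coh.structureModule X) : PicF.IsInvertible M := by
  intro x
  obtain ⟨U, hU, ⟨g⟩⟩ := hL x
  obtain ⟨t⟩ := SerreVanLib.nonempty_restrict_tensor_iso M g
  exact ⟨U, hU, ⟨t.symm ≪≫ (Scheme.Modules.restrictFunctor U.ι).mapIso (swapIso M L ≪≫ e) ≪≫
    (Scheme.Modules.restrictFunctorIsoPullback U.ι).app _ ≪≫ KFlatLib.pullUnitIso U.ι⟩⟩

theorem nonempty_pow_inverse {X : Scheme.{u}} {L M : X.Modules}
    (e : CohB1.tensorMod L M ≅ Coh.structureModule X) : ∀ n : ℕ,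
    Nonempty (CohB1.tensorMod (CohB1.tensorPow L n) (CohB1.tensorPow M n) ≅ Coh.structureModule X)
  | 0 => ⟨unitLeft _⟩
  | n + 1 => by
    obtain ⟨e'⟩ := nonempty_pow_inverse e n
    exact ⟨assocIso _ _ _ ≪≫ congrRight _ (leftComm L (CohB1.tensorPow M n) M ≪≫ congrRight _ e) ≪≫
      congrRight _ (swapIso _ _ ≪≫ unitLeft _) ≪≫ e'⟩

theorem nonempty_pullback_tensorList {X Y : Scheme.{u}} (g : Y ⟶ X) : ∀ l : List X.Modules,
    Nonempty ((Scheme.Modules.pullback g).obj (FGA.tensorList l) ≅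
      FGA.tensorList (l.map (Scheme.Modules.pullback g).obj))
  | [] => ⟨KFlatLib.pullUnitIso g⟩
  | M :: l => by
    obtain ⟨e⟩ := nonempty_pullback_tensorList g l
    haveI := KFlatLib.isIso_pullθ g M (FGA.tensorList l)
    exact ⟨@asIso _ _ _ _ (KFlatLib.pullθ g M (FGA.tensorList l)) this ≪≫ congrRight _ e⟩

variable {k : Type u} [Field k]

/-- Intersection numbers on a closed subscheme. -/
theorem intNum_quotMod {X : Scheme.{u}} [X.Over (Spec (CommRingCat.of k))]
    [IsProper (X ↘ Spec (CommRingCat.of k))] {d : ℕ} (hd : topologicalKrullDim X ≤ (d : ℕ)) {r : ℕ}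
    (M : Fin r → X.Modules) (hM : ∀ i, PicF.IsInvertible (M i)) (J : X.IdealSheafData) :
    letI : J.subscheme.Over (Spec (CommRingCat.of k)) := ⟨J.subschemeι ≫ (X ↘ (Spec (CommRingCat.of k)))⟩
    FGA.intNum k X d M (ClSub.quotMod J) =
      FGA.intNum k J.subscheme d (fun i => (Scheme.Modules.pullback J.subschemeι).obj (M i))
        (Coh.structureModule J.subscheme) := by
  letI : J.subscheme.Over (Spec (CommRingCat.of k)) := ⟨J.subschemeι ≫ (X ↘ (Spec (CommRingCat.of k)))⟩
  haveI : IsProper (J.subscheme ↘ Spec (CommRingCat.of k)) :=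
    inferInstanceAs (IsProper (J.subschemeι ≫ (X ↘ Spec (CommRingCat.of k))))
  have hdJ : topologicalKrullDim J.subscheme ≤ (d : ℕ) :=
    (J.subschemeι.isEmbedding.isInducing.topologicalKrullDim_le).trans hd
  refine Finset.sum_congr rfl fun I _ => congrArg ((-1 : ℤ) ^ I.card * ·) ?_
  rw [eulerCharLE_eq hd, eulerCharLE_eq hdJ]
  let l := (I.sort (· ≤ ·)).map M
  let T := FGA.tensorList l
  have hT : PicF.IsInvertible T := isInvertible_tensorList _ fun N hN => by
    obtain ⟨j, -, rfl⟩ := List.mem_map.mp hN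
    exact hM j
  obtain ⟨e⟩ := nonempty_pullback_tensorList J.subschemeι l
  rw [show l.map (Scheme.Modules.pullback J.subschemeι).obj =
    (I.sort (· ≤ ·)).map (fun i => (Scheme.Modules.pullback J.subschemeι).obj (M i)) from List.map_map] at e
  let pr := @asIso _ _ _ _ (ProjFormLib.projApp J.subschemeι T (Coh.structureModule J.subscheme))
    (ProjFormLib.isIso_projApp J.subschemeι
      (CurveVBLib.isFinLocFree_of_rank (CurvLib.locFree_of_isInvertible hT)) _)
  let A := CohB1.tensorMod ((Scheme.Modules.pullback J.subschemeι).obj T) (Coh.structureModule J.subscheme)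
  haveI : Coh.IsQCoh A :=
    (HilbPolyLib.isCoh_tensor (AmpleDevLib.isInvertible_pb J.subschemeι hT) (isCoh_structureModule _)).1
  refine (CurvLib.euler_congr (k := k) (show CohB1.tensorMod T (ClSub.quotMod J) ≅ (Coh.push J.subschemeι).obj A
    from pr)).trans ((PushLinLib.euler_push k J.subschemeι rfl A).2.symm.trans ?_)
  exact CurvLib.euler_congr (congrLeft e _)

variable {X : Scheme.{u}} [X.Over (Spec (CommRingCat.of k))] [IsProper (X ↘ Spec (CommRingCat.of k))]

theorem intNum_add {d : ℕ} (hd : topologicalKrullDim X ≤ (d : ℕ)) {r : ℕ} (M : Fin r → X.Modules)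
    (hM : ∀ i, PicF.IsInvertible (M i)) {S : ShortComplex X.Modules} (hS : S.ShortExact)
    (h₁ : Coh.IsCoh S.X₁) (h₂ : Coh.IsCoh S.X₂) (h₃ : Coh.IsCoh S.X₃) :
    FGA.intNum k X d M S.X₂ = FGA.intNum k X d M S.X₁ + FGA.intNum k X d M S.X₃ := by
  have := hilbFun_add (k := k) (isInvertible_multiTwist M hM) hS h₁ h₂ h₃
  have h : (FGA.intNum k X d M S.X₂ : ℚ) = FGA.intNum k X d M S.X₁ + FGA.intNum k X d M S.X₃ := by
    rw [intNum_eq_cubeSum hd, intNum_eq_cubeSum hd, intNum_eq_cubeSum hd, this, map_add]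
  exact_mod_cast h

/-- Powers multiply the intersection number. -/
theorem intNum_pow {d : ℕ} (hd : topologicalKrullDim X ≤ (d : ℕ)) {r : ℕ} {A : X.Modules}
    (hA : PicF.IsInvertible A) (M : Fin r → X.Modules) (hM : ∀ i, PicF.IsInvertible (M i))
    (F : X.Modules) (hF : Coh.IsCoh F) (hr : topologicalKrullDim (CohB1.support F) ≤ (r + 1 : ℕ)) (n : ℕ) :
    FGA.intNum k X d (Fin.cons (CohB1.tensorPow A n) M) F = n * FGA.intNum k X d (Fin.cons A M) F := by
  induction n with
  | zero =>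
    rw [intNum_cons hd, intNum_congr hd M (show CohB1.tensorMod (CohB1.tensorPow A 0) F ≅ F from unitLeft F)]
    simp
  | succ n ih =>
    rw [show CohB1.tensorPow A (n + 1) = CohB1.tensorMod (CohB1.tensorPow A n) A from rfl,
      intNum_tensor hd M hM (AmpleThLib.tensorPow_isInvertible hA n) hA F hF hr, ih]
    push_cast
    ring

theorem euler_pos_of_dim_zero {F : X.Modules} (hF : Coh.IsCoh F)
    (hr : topologicalKrullDim (CohB1.support F) = ((0 : ℕ) : WithBot ℕ∞)) : 0 < Curv2.euler k X F := by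
  rw [CurvLib.euler_eq_h0 hF hr.le]
  haveI := CurvLib.isNoetherian k (X := X)
  haveI := CurvLib.finite_HH (k := k) hF 0
  obtain ⟨hT, hTc⟩ := CurvLib.finite_support_data k hF hr.le
  letI := CurvLib.secModule (k := k) F
  letI := fun x : CohB1.support F => CurvLib.stalkModule (k := k) F x.1
  have hne : (CohB1.support F).Nonempty := by
    by_contra h
    haveI : IsEmpty (CohB1.support F) := Set.isEmpty_coe_sort.mpr (Set.not_nonempty_iff_eq_empty.mp h)
    haveI : IsEmpty (IrreducibleCloseds (CohB1.support F)) := ⟨fun Z => IsEmpty.false Z.isIrreducible.1.some⟩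
    simp [topologicalKrullDim, Order.krullDim_eq_bot] at hr
  obtain ⟨x, hx⟩ := hne
  let e := (CurvLib.hhZeroEquiv (k := k) F).trans (CurvLib.secStalksEquiv (k := k) F hT hTc subset_rfl)
  obtain ⟨a, ha⟩ := (mem_support_iff_nonzero F x).mp hx
  haveI : Nontrivial (Coh.HH X F 0) := by
    classical
    refine ⟨⟨e.symm (Pi.single ⟨x, hx⟩ a), 0, fun h => ha ?_⟩⟩
    have h1 := congrArg (fun z => e z ⟨x, hx⟩) h
    simpa using h1
  exact_mod_cast Module.finrank_pos

theorem intNum_zero {d : ℕ} (hd : topologicalKrullDim X ≤ (d : ℕ)) (M : Fin 0 → X.Modules) (F : X.Modules) :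
    FGA.intNum k X d M F = Curv2.euler k X F := by
  have h : (FGA.intNum k X d M F : ℚ) = (Curv2.euler k X F : ℚ) := by
    rw [intNum_eq_cubeSum hd]
    simp only [cubeSum, LinearMap.coe_mk, AddHom.coe_mk, bSgn, Fintype.sum_unique, Fin.prod_univ_zero,
      one_mul, hilbFun]
    exact congrArg Int.cast (CurvLib.euler_congr (unitLeft _))
  exact_mod_cast h

omit [IsProper (X ↘ Spec (CommRingCat.of k))] in
theorem genAt_of_unitHom_surjective {N : X.Modules} (hN : PicF.IsInvertible N) (σ : Γ(N, ⊤)) {x : X}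
    (h : Function.Surjective ((St x).map (QCohLib.unitHom N σ)).hom) :
    AmpleLib.GenAt N σ (show x ∈ (⊤ : X.Opens) from trivial) := by
  obtain ⟨U, e, hxU, he⟩ := TwistLib.exists_genOn hN x
  let R := X.presheaf.stalk x
  have hb : Function.Bijective fun c : R => c • gm N x hxU e := he.genAt hxU
  have hsur : ∀ b : (St x).obj N, ∃ c : R, c • gm N x (show x ∈ (⊤ : X.Opens) from trivial) σ = b := by
    intro b
    obtain ⟨a, ha⟩ := h b
    obtain ⟨W, hxW, t, rfl⟩ := exists_gm_eq _ x a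
    refine ⟨X.presheaf.germ W x hxW (show Γ(X, W) from t), ?_⟩
    rw [← ha, gm_app]
    refine Eq.trans ?_ (congrArg (gm N x hxW) (QCohLib.unitHom_app N σ W t)).symm
    exact (congrArg (_ • ·) (gm_map N le_top x hxW σ).symm).trans (gm_smul N x hxW _ _).symm
  obtain ⟨c, hc⟩ := hsur (gm N x hxU e)
  obtain ⟨c', hc'⟩ := hb.2 (gm N x (show x ∈ (⊤ : X.Opens) from trivial) σ)
  have hu : c * c' = 1 := by
    refine hb.1 ?_
    dsimp only at hc' ⊢
    rw [mul_smul, hc', hc]
    exact (one_smul _ _).symm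
  refine ⟨fun s t hst => ?_, fun b => hsur b⟩
  have h1 : (s * c') • gm N x hxU e = (t * c') • gm N x hxU e := by
    dsimp only at hc'
    rw [mul_smul, mul_smul, hc']
    exact hst
  calc s = (s * c') * c := by rw [mul_assoc, mul_comm c', hu, mul_one]
    _ = (t * c') * c := by rw [hb.1 h1]
    _ = t := by rw [mul_assoc, mul_comm c', hu, mul_one]

include k in
/-- A nonempty zero locus of a section on an integral scheme has codimension one. -/
theorem le_dim_zeroLocus [IsIntegral X] {r : ℕ} (hX : topologicalKrullDim X = ((r + 1 : ℕ) : WithBot ℕ∞))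
    {N : X.Modules} (hN : PicF.IsInvertible N) (σ : Γ(N, ⊤)) {x : X} (hx : x ∉ TwistLib.genSet hN σ)
    {T : Set X} (hT : ∀ y, y ∉ TwistLib.genSet hN σ → y ∈ T) :
    ((r : ℕ) : WithBot ℕ∞) ≤ topologicalKrullDim T := by
  let q := X ↘ Spec (CommRingCat.of k)
  obtain ⟨U, e, hxU', he⟩ := TwistLib.exists_genOn hN x
  obtain ⟨V, hV, hxV, hVU⟩ := Opens.isBasis_iff_nbhd.mp X.isBasis_affineOpens hxU'
  replace hV : IsAffineOpen V := hV
  haveI : Nonempty V := ⟨⟨x, hxV⟩⟩
  letI : Algebra k Γ(X, V) := ((q.appLE ⊤ V le_top).hom.comp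
    (Scheme.ΓSpecIso (CommRingCat.of k)).inv.hom).toAlgebra
  haveI : Algebra.FiniteType k Γ(X, V) :=
    (q.finiteType_appLE (isAffineOpen_top _) hV le_top).comp (RingHom.FiniteType.of_surjective _
      (ConcreteCategory.bijective_of_isIso (Scheme.ΓSpecIso (CommRingCat.of k)).inv).2)
  haveI : IsNoetherianRing Γ(X, V) := Algebra.FiniteType.isNoetherianRing k _
  have heV := he.res hVU
  let e' : Γ(N, V) := AmpleLib.res N hVU e
  obtain ⟨f, hf⟩ := (he V hVU).2 (AmpleLib.res N (le_top : V ≤ ⊤) σ)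
  dsimp only at hf
  have hiff : ∀ (y : X) (hy : y ∈ V), y ∈ TwistLib.genSet hN σ ↔ f ∉ (hV.primeIdealOf ⟨y, hy⟩).asIdeal := by
    intro y hy
    rw [← AssPointLib.mem_basicOpen_iff hV hy f]
    refine Iff.trans ?_ (AmpleLib.genAt_smul_iff f e' hy (heV.genAt hy))
    rw [hf]
    exact (AmpleLib.genAt_res (le_top : V ≤ ⊤) σ hy).symm
  have hfx : f ∈ (hV.primeIdealOf ⟨x, hxV⟩).asIdeal := not_not.mp fun h => hx ((hiff x hxV).mpr h)
  obtain ⟨p, hp, hpx⟩ := Ideal.exists_minimalPrimes_le (I := Ideal.span {f})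
    ((Ideal.span_singleton_le_iff_mem _).mpr hfx)
  haveI := hp.1.1
  have hht : p.height ≤ 1 := Ideal.height_le_one_of_isPrincipal_of_mem_minimalPrimes _ p hp
  have hform := FibDimLib.ringKrullDim_quotient_add_height_affine (k := k) Γ(X, V) p
  have hdimA : ringKrullDim Γ(X, V) = ((r + 1 : ℕ) : WithBot ℕ∞) := by
    have hgV : genericPoint X ∈ V := ((genericPoint_spec X).mem_open_set_iff V.2).mpr ⟨x, trivial, hxV⟩
    rw [← hX, ← (Homeomorph.Set.univ X).isHomeomorph.topologicalKrullDim_eq,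
      ← (genericPoint_spec X).def, FibDimLib.topologicalKrullDim_closure_eq_affine q hV hgV]
    refine ringKrullDim_eq_of_ringEquiv ((RingEquiv.quotientBot _).symm.trans (Ideal.quotEquivOfEq ?_))
    refine (eq_bot_iff.mpr fun a ha => ?_).symm
    by_contra hne
    have hne' : ((X.basicOpen a : X.Opens) : Set X).Nonempty := by
      by_contra hc
      exact hne (eq_zero_of_basicOpen_eq_bot a (Opens.ext (Set.not_nonempty_iff_eq_empty.mp hc)))
    exact ((AssPointLib.mem_basicOpen_iff hV hgV a).mp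
      (((genericPoint_spec X).mem_open_set_iff (X.basicOpen a).2).mpr (by simpa using hne'))) ha
  let y : X := hV.fromSpec ⟨p, hp.1.1⟩
  have hyV : y ∈ V := hV.range_fromSpec.le ⟨_, rfl⟩
  have hpy : hV.primeIdealOf ⟨y, hyV⟩ = ⟨p, hp.1.1⟩ :=
    hV.fromSpec.isOpenEmbedding.injective (hV.fromSpec_primeIdealOf ⟨y, hyV⟩)
  have hyG : y ∉ TwistLib.genSet hN σ := fun h =>
    (hiff y hyV).mp h (by rw [hpy]; exact hp.1.2 (Ideal.mem_span_singleton_self f))
  have hsub : closure ({y} : Set X) ⊆ T := fun z hz => hT z fun hzG =>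
    hyG ((specializes_iff_mem_closure.mpr hz).mem_open (TwistLib.genSet hN σ).2 hzG)
  refine le_trans ?_ (Topology.IsInducing.topologicalKrullDim_le (f := Set.inclusion hsub)
    (Topology.IsEmbedding.inclusion _).isInducing)
  rw [FibDimLib.topologicalKrullDim_closure_eq_affine q hV hyV, hpy]
  rw [hdimA] at hform
  change ((r : ℕ) : WithBot ℕ∞) ≤ ringKrullDim (Γ(X, V) ⧸ p)
  revert hform
  generalize ringKrullDim (Γ(X, V) ⧸ p) = t
  intro hform
  induction t with
  | bot => rw [WithBot.bot_add] at hform; exact absurd hform (WithBot.bot_ne_natCast _)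
  | coe a =>
    induction a with
    | top => exact le_top
    | coe m =>
      obtain ⟨h', hh', hle⟩ : ∃ h' : ℕ, p.height = (h' : ℕ∞) ∧ h' ≤ 1 := by
        obtain ⟨h', hh'⟩ := ENat.ne_top_iff_exists.mp (ne_top_of_le_ne_top ENat.one_ne_top hht)
        exact ⟨h', hh'.symm, by rw [← hh'] at hht; exact_mod_cast hht⟩
      rw [hh'] at hform
      have : m + h' = r + 1 := by exact_mod_cast hform
      exact_mod_cast (show r ≤ m by omega)

end IntMultLib

end
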