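import Groth.Agent.HilbPolyLib.IntNum
import Groth.Agent.ProjFormLib.Proj
import Groth.Agent.PushLinLib.HH
import Groth.Agent.AmpleDevLib.Pull
import Groth.Agent.CurveVBLib.Basic
import Groth.Agent.CurvLib.Divisor
import Groth.Agent.FibDimLib.ClosureDim
import Groth.Prelude.Def_Curv2

/-!
# Multiplicities and intersection numbers
-/

set_option autoImplicit false
set_option linter.style.haveILetI false
universe u

open CategoryTheory CategoryTheory.Limits AlgebraicGeometry TopologicalSpace Opposite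
open DevissLib HilbPolyLib

noncomputable section

namespace IntMultLib

variable {X : Scheme.{u}}

/-! ### Projection formula for iterated twists -/

theorem nonempty_push_tensorPows {Z : Scheme.{u}} (ι : Z ⟶ X) : ∀ (r : ℕ) (G : Z.Modules)
    (L : Fin r → X.Modules) (_ : ∀ i, PicF.IsInvertible (L i)) (n : Fin r → ℕ),
    Nonempty ((Coh.push ι).obj (Curv2.tensorPows G r (fun i => (Scheme.Modules.pullback ι).obj (L i)) n) ≅
      Curv2.tensorPows ((Coh.push ι).obj G) r L n)
  | 0, _, _, _, _ => ⟨Iso.refl _⟩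
  | r + 1, G, L, hL, n => by
    obtain ⟨e⟩ := nonempty_push_tensorPows ι r G (fun i => L i.castSucc) (fun i => hL _)
      (fun i => n i.castSucc)
    let P := CohB1.tensorPow (L (Fin.last r)) (n (Fin.last r))
    obtain ⟨φ, -⟩ := AmpleDevLib.exists_pullPowIso ι (hL (Fin.last r)) (n (Fin.last r))
    let A := Curv2.tensorPows G r (fun i => (Scheme.Modules.pullback ι).obj (L i.castSucc))
      (fun i => n i.castSucc)
    have hP : FlatMod.IsFinLocFree P := CurveVBLib.isFinLocFree_of_rank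
      (CurvLib.locFree_of_isInvertible (AmpleThLib.tensorPow_isInvertible (hL _) _))
    let pr := @asIso _ _ _ _ (ProjFormLib.projApp ι P A) (ProjFormLib.isIso_projApp ι hP A)
    exact ⟨(Coh.push ι).mapIso (congrRight A φ.symm ≪≫ swapIso _ _) ≪≫ pr.symm ≪≫
      congrRight P e ≪≫ swapIso _ _⟩

/-- `r`-fold twists of modules: dropping a leading zero exponent. -/
theorem nonempty_tensorPows_cons_zero (F : X.Modules) : ∀ (r : ℕ) (L : Fin (r + 1) → X.Modules)
    (n : Fin r → ℕ),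
    Nonempty (Curv2.tensorPows F (r + 1) L (Fin.cons 0 n) ≅
      Curv2.tensorPows F r (fun j => L j.succ) n)
  | 0, L, n => ⟨swapIso _ _ ≪≫ unitLeft _⟩
  | r + 1, L, n => by
    obtain ⟨e⟩ := nonempty_tensorPows_cons_zero F r (fun i => L i.castSucc) (fun i => n i.castSucc)
    have h1 : (fun i : Fin (r + 1) => (Fin.cons 0 n : Fin (r + 2) → ℕ) i.castSucc) =
        Fin.cons 0 (fun i => n i.castSucc) := by
      funext i
      induction i using Fin.cases with
      | zero => rfl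
      | succ i => rw [← Fin.succ_castSucc]; simp
    have h2 : (Fin.cons 0 n : Fin (r + 2) → ℕ) (Fin.last (r + 1)) = n (Fin.last r) := by
      rw [← Fin.succ_last, Fin.cons_succ]
    change Nonempty (CohB1.tensorMod (Curv2.tensorPows F (r + 1) (fun i => L i.castSucc)
      fun i => (Fin.cons 0 n : Fin (r + 2) → ℕ) i.castSucc) _ ≅ _)
    rw [h1, h2]
    exact ⟨congrLeft e _⟩

/-! ### Closures of points -/

/-- The reduced ideal of the closure of a point. -/
abbrev ptIdeal (ξ : X) : X.IdealSheafData :=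
  Scheme.IdealSheafData.vanishingIdeal (⟨closure ({ξ} : Set X), isClosed_closure⟩ : Closeds X)

theorem range_ptIdeal (ξ : X) : Set.range ⇑(ptIdeal ξ).subschemeι = closure ({ξ} : Set X) :=
  (ptIdeal ξ).range_subschemeι.trans
    (Scheme.IdealSheafData.coe_support_vanishingIdeal ⟨closure {ξ}, isClosed_closure⟩)

theorem isIntegral_ptIdeal (ξ : X) : IsIntegral (ptIdeal ξ).subscheme := by
  let I := ptIdeal ξ
  have hr := range_ptIdeal ξ
  haveI := isReduced_vanishingIdeal' (⟨closure ({ξ} : Set X), isClosed_closure⟩ : Closeds X)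
  have hirr := isIrreducible_singleton (x := ξ).closure
  have hne : Nonempty I.subscheme := by
    obtain ⟨z, -⟩ := hr.ge (subset_closure rfl : ξ ∈ closure {ξ})
    exact ⟨z⟩
  have : IrreducibleSpace I.subscheme := by
    have hi := I.subschemeι.isEmbedding
    have h : IsPreirreducible (Set.univ : Set I.subscheme) := by
      rintro u v hu hv ⟨a, -, ha⟩ ⟨b, -, hb⟩
      obtain ⟨u', hu', rfl⟩ := hi.isInducing.isOpen_iff.mp hu
      obtain ⟨v', hv', rfl⟩ := hi.isInducing.isOpen_iff.mp hv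
      obtain ⟨_, hy, hyu, hyv⟩ :=
        hirr.2 u' v' hu' hv' ⟨_, hr.le ⟨a, rfl⟩, ha⟩ ⟨_, hr.le ⟨b, rfl⟩, hb⟩
      obtain ⟨z, rfl⟩ := hr.ge hy
      exact ⟨z, trivial, hyu, hyv⟩
    exact { isPreirreducible_univ := h, toNonempty := hne }
  exact isIntegral_of_irreducibleSpace_of_isReduced _

theorem generator [IsNoetherian X] (η : X) :
    Coh.IsCoh (ClSub.quotMod (ptIdeal η)) ∧
      CohB1.support (ClSub.quotMod (ptIdeal η)) = closure {η} ∧
      Nonempty (↑((ClSub.quotMod (ptIdeal η)).presheaf.stalk η) ≃ₗ[X.presheaf.stalk η]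
        IsLocalRing.ResidueField (X.presheaf.stalk η)) := by
  haveI := isIntegral_ptIdeal η
  have hr := range_ptIdeal η
  let j := (ptIdeal η).subschemeι
  have hξ : j (genericPoint (ptIdeal η).subscheme) = η := by
    refine ((genericPoint_spec _).image j.continuous).eq ?_
    change closure {η} = closure (⇑j '' Set.univ)
    rw [Set.image_univ, hr, closure_closure]
  obtain ⟨hG, hGs, he⟩ := push_generic j _ (isCoh_structureModule _) ⊤
    ⟨genericPoint (ptIdeal η).subscheme, trivial⟩ fun U _ => exists_gen_structureModule U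
  rw [hξ] at he
  exact ⟨hG, hGs.trans hr, he⟩

theorem dim_closure_le {Y : Set X} (hY : IsClosed Y) {η : X} (hη : η ∈ Y) {c : WithBot ℕ∞}
    (hd : topologicalKrullDim Y ≤ c) : topologicalKrullDim (closure ({η} : Set X)) ≤ c :=
  (Topology.IsInducing.topologicalKrullDim_le
    (f := Set.inclusion (hY.closure_subset_iff.mpr (Set.singleton_subset_iff.mpr hη)))
    (Topology.IsInducing.subtypeVal.codRestrict _)).trans hd

theorem eq_of_specializes_of_dim {Y : Set X} (hY : IsClosed Y) {d : ℕ}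
    (hd : topologicalKrullDim Y ≤ (d : ℕ)) {ξ η : X}
    (hξ : topologicalKrullDim (closure ({ξ} : Set X)) = (d : WithBot ℕ∞)) (hη : η ∈ Y) (h : η ⤳ ξ) :
    η = ξ := by
  by_contra hne
  have h1 : η ∉ closure ({ξ} : Set X) := fun h' =>
    hne (h.antisymm (specializes_iff_mem_closure.mpr h')).eq
  have h2 := dim_lt_of_notMem (T' := closure ({ξ} : Set X)) isClosed_closure
    (closure_minimal (Set.singleton_subset_iff.mpr (specializes_iff_mem_closure.mp h)) isClosed_closure)
    h1 (hY.closure_subset_iff.mpr (Set.singleton_subset_iff.mpr hη)) (d := d)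
    (hd.trans_lt (by exact_mod_cast Nat.lt_succ_self d))
  exact h2.ne hξ

theorem finite_dim_points [IsNoetherian X] {Y : Set X} (hY : IsClosed Y) {d : ℕ}
    (hd : topologicalKrullDim Y ≤ (d : ℕ)) :
    {ξ : X | ξ ∈ Y ∧ topologicalKrullDim (closure ({ξ} : Set X)) = (d : WithBot ℕ∞)}.Finite := by
  obtain ⟨S, hSfin, hScl, hSirr, hSY⟩ := NoetherianSpace.exists_finite_set_isClosed_irreducible hY
  classical
  have hg : ∀ s ∈ S, ∃ x : X, closure {x} = s := fun s hs => by
    obtain ⟨x, hx⟩ := QuasiSober.sober (hSirr s hs) (hScl s hs)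
    exact ⟨x, hx.def⟩
  choose g hg using hg
  haveI := hSfin.to_subtype
  refine (Set.finite_range (fun s : S => g s.1 s.2)).subset fun ξ ⟨hξY, hξ⟩ => ?_
  obtain ⟨s, hs, hξs⟩ := Set.mem_sUnion.mp (hSY.le hξY)
  refine ⟨⟨s, hs⟩, eq_of_specializes_of_dim hY hd hξ ?_ ?_⟩
  · exact hSY.ge (Set.mem_sUnion.mpr ⟨s, hs, (hg s hs).le (subset_closure rfl)⟩)
  · exact specializes_iff_mem_closure.mpr ((hg s hs).ge hξs)

/-- The length of the stalk. -/
abbrev len (M : X.Modules) (ξ : X) : ℕ∞ :=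
  Module.length (X.presheaf.stalk ξ) (M.presheaf.stalk ξ)

theorem len_add {S : ShortComplex X.Modules} (hS : S.ShortExact) (ξ : X) :
    len S.X₂ ξ = len S.X₁ ξ + len S.X₃ ξ := by
  have hx := hS.map_of_exact (St ξ)
  exact Module.length_eq_add_of_exact ((St ξ).map S.f).hom ((St ξ).map S.g).hom
    ((ModuleCat.mono_iff_injective _).mp hx.mono_f) ((ModuleCat.epi_iff_surjective _).mp hx.epi_g)
    ((ShortComplex.ShortExact.moduleCat_exact_iff_function_exact (S.map (St ξ))).mp hx.exact)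

theorem len_congr {M N : X.Modules} (e : M ≅ N) (ξ : X) : len M ξ = len N ξ :=
  ((St ξ).mapIso e).toLinearEquiv.length_eq

theorem len_eq_zero {M : X.Modules} {ξ : X} (h : ξ ∉ CohB1.support M) : len M ξ = 0 :=
  haveI : Subsingleton (M.presheaf.stalk ξ) := not_not.mp h
  Module.length_eq_zero

theorem len_generator [IsNoetherian X] (η : X) : len (ClSub.quotMod (ptIdeal η)) η = 1 := by
  obtain ⟨e⟩ := (generator η).2.2
  rw [len, e.length_eq]
  haveI : IsSimpleModule (X.presheaf.stalk η) (IsLocalRing.ResidueField (X.presheaf.stalk η)) :=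
    isSimpleModule_iff_isCoatom.mpr (IsLocalRing.maximalIdeal.isMaximal _).out
  exact Module.length_eq_one _ _

/-! ### Polynomial functions -/

/-- The function of a polynomial on natural exponents. -/
def pfun {r : ℕ} (P : MvPolynomial (Fin r) ℚ) : (Fin r → ℕ) → ℚ :=
  fun n => MvPolynomial.eval (fun i => (n i : ℚ)) P

theorem pfun_injective {r : ℕ} : Function.Injective (pfun (r := r)) := fun P Q h => by
  refine MvPolynomial.funext_set (fun _ => Set.range (Nat.cast : ℕ → ℚ))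
    (fun _ => Set.infinite_range_of_injective Nat.cast_injective) fun x hx => ?_
  simp only [Set.mem_pi, Set.mem_range] at hx
  choose n hn using fun i => hx i (Set.mem_univ _)
  obtain rfl : (fun i => (n i : ℚ)) = x := funext hn
  exact congrFun h n

theorem exists_poly_lt {r d : ℕ} {f : (Fin r → ℕ) → ℚ} (hf : f ∈ polyFun r d) :
    ∃ P : MvPolynomial (Fin r) ℚ, (∀ m ∈ P.support, (m.sum fun _ e => e) < d) ∧ f = pfun P := by
  cases d with
  | zero =>
    rw [polyFun_zero, Submodule.mem_bot] at hf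
    exact ⟨0, by simp, by funext n; simp [hf, pfun]⟩
  | succ d =>
    obtain ⟨P, hP, hP'⟩ := exists_mvPolynomial hf
    exact ⟨P, fun m hm => Nat.lt_succ_iff.mpr ((MvPolynomial.le_totalDegree hm).trans hP),
      funext hP'⟩

/-- The exponent `(1, …, 1)`. -/
abbrev oneExp (d : ℕ) : Fin d →₀ ℕ := Finsupp.equivFunOnFinite.symm fun _ : Fin d => 1

theorem cubeSum_monFun_one {d : ℕ} : cubeSum (monFun fun _ : Fin d => 1) = (-1 : ℚ) ^ d := by
  have key : cubeSum (monFun fun _ : Fin d => 1) =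
      ∏ _l : Fin d, ∑ b : Bool, (if b then -1 else 1) * (((if b then 1 else 0 : ℕ) : ℚ)) ^ 1 := by
    rw [Fintype.prod_sum]
    simp only [cubeSum, LinearMap.coe_mk, AddHom.coe_mk, bSgn, bExp, monFun, Finset.prod_mul_distrib]
  rw [key]
  simp

theorem cubeSum_pfun {d : ℕ} {P : MvPolynomial (Fin d) ℚ} (hP : ∀ m ∈ P.support, (m.sum fun _ e => e) ≤ d) :
    cubeSum (pfun P) = (-1 : ℚ) ^ d * P.coeff (oneExp d) := by
  classical
  have h1 : pfun P = ∑ m ∈ P.support, P.coeff m • monFun ⇑m := by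
    funext n
    simp [pfun, MvPolynomial.eval_eq', monFun, Finset.sum_apply]
  rw [h1, map_sum, Finset.sum_eq_single (oneExp d)]
  · rw [map_smul, smul_eq_mul, mul_comm]
    congr 1
    exact cubeSum_monFun_one
  · intro m hm hne
    rw [map_smul, cubeSum_monFun ?_, smul_zero]
    by_contra hc
    push Not at hc
    refine hne (Finsupp.ext fun i => ?_)
    have h2 := hP m hm
    rw [Finsupp.sum_fintype _ _ (fun _ => rfl)] at h2
    have h3 : ∀ j, 1 ≤ m j := fun j => Nat.one_le_iff_ne_zero.mpr (hc j)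
    have h4 : ∑ j, (m j - 1) = 0 := by
      have : ∑ j : Fin d, (m j - 1) + ∑ _j : Fin d, 1 = ∑ j, m j := by
        rw [← Finset.sum_add_distrib]
        exact Finset.sum_congr rfl fun j _ => Nat.sub_add_cancel (h3 j)
      simp at this
      omega
    have h5 := (Finset.sum_eq_zero_iff.mp h4) i (Finset.mem_univ i)
    have h6 := h3 i
    simp
    omega
  · intro h
    rw [MvPolynomial.notMem_support_iff.mp h, zero_smul, map_zero]

theorem coeff_eq_cubeSum {d : ℕ} {f : (Fin d → ℕ) → ℚ} (hf : f ∈ polyFun d (d + 1))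
    (P : MvPolynomial (Fin d) ℚ) (hP : f = pfun P) :
    P.coeff (oneExp d) = (-1 : ℚ) ^ d * cubeSum f := by
  obtain ⟨P', hP', hfP'⟩ := exists_poly_lt hf
  obtain rfl : P' = P := pfun_injective (hfP'.symm.trans hP)
  rw [hP, cubeSum_pfun fun m hm => Nat.lt_succ_iff.mp (hP' m hm), ← mul_assoc, ← mul_pow]
  simp

/-! ### Euler characteristics -/

variable {k : Type u} [Field k] [X.Over (Spec (CommRingCat.of k))]
  [IsProper (X ↘ Spec (CommRingCat.of k))] {r : ℕ} (L : Fin r → X.Modules)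

omit [IsProper (X ↘ Spec (CommRingCat.of k))] in
variable (k) in
/-- `n ↦ χ(F ⊗ L^n)`. -/
abbrev hilb (F : X.Modules) : (Fin r → ℕ) → ℚ :=
  hilbFun k (fun n => Curv2.tensorPows (Coh.structureModule X) r L n) F

omit [IsProper (X ↘ Spec (CommRingCat.of k))] in
theorem hilb_eq (F : X.Modules) (n : Fin r → ℕ) :
    hilb k L F n = (Curv2.euler k X (Curv2.tensorPows F r L n) : ℚ) := by
  obtain ⟨e⟩ := nonempty_tensorPows F r L n
  simp only [hilb, hilbFun, CurvLib.euler_congr e]

variable {L} (hL : ∀ i, PicF.IsInvertible (L i))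
include hL

theorem hilb_mem {F : X.Modules} (hF : Coh.IsCoh F) {d : ℕ}
    (hd : topologicalKrullDim (CohB1.support F) < (d : ℕ)) : hilb k L F ∈ polyFun r d :=
  hilbFun_mem (fun n => isInvertible_tensorPows r L hL n) hL
    (fun n i => nonempty_tensorPows_step r L n i) d F hF hd

theorem hilb_quotMod (D : X.IdealSheafData) (n : Fin r → ℕ) :
    hilb k L (ClSub.quotMod D) n =
      (@Curv2.euler k _ D.subscheme ⟨D.subschemeι ≫ (X ↘ (Spec (CommRingCat.of k)))⟩
        (Curv2.tensorPows (Coh.structureModule D.subscheme) r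
          (fun i => (Scheme.Modules.pullback D.subschemeι).obj (L i)) n) : ℚ) := by
  letI : D.subscheme.Over (Spec (CommRingCat.of k)) :=
    ⟨D.subschemeι ≫ (X ↘ (Spec (CommRingCat.of k)))⟩
  have hinv := isInvertible_tensorPows (X := D.subscheme) r
    (fun i => (Scheme.Modules.pullback D.subschemeι).obj (L i))
    (fun i => AmpleDevLib.isInvertible_pb D.subschemeι (hL i)) n
  haveI : Coh.IsQCoh (Curv2.tensorPows (Coh.structureModule D.subscheme) r
      (fun i => (Scheme.Modules.pullback D.subschemeι).obj (L i)) n) :=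
    (CurvLib.isCoh_of_isInvertible hinv).1
  obtain ⟨e⟩ := nonempty_push_tensorPows D.subschemeι r (Coh.structureModule D.subscheme) L hL n
  rw [hilb_eq, (PushLinLib.euler_push k D.subschemeι rfl _).2, CurvLib.euler_congr e]

/-- The leading part of `χ(F ⊗ L^n)`. -/
theorem main {Y : Set X} (hY : IsClosed Y) (hne : Y.Nonempty) {d : ℕ}
    (hd : topologicalKrullDim Y ≤ (d : ℕ)) (M : X.Modules) (hM : Coh.IsCoh M)
    (hMY : CohB1.support M ⊆ Y) :
    ∃ T : Finset X, (∀ ξ, ξ ∈ T ↔ ξ ∈ Y ∧ topologicalKrullDim (closure ({ξ} : Set X)) = (d : WithBot ℕ∞)) ∧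
      hilb k L M - ∑ ξ ∈ T, ((len M ξ).toNat : ℚ) • hilb k L (ClSub.quotMod (ptIdeal ξ)) ∈ polyFun r d := by
  haveI := CurvLib.isNoetherian k (X := X)
  classical
  let T := (finite_dim_points hY hd).toFinset
  have hT : ∀ ξ, ξ ∈ T ↔ ξ ∈ Y ∧ topologicalKrullDim (closure ({ξ} : Set X)) = (d : WithBot ℕ∞) :=
    fun ξ => Set.Finite.mem_toFinset _
  refine ⟨T, hT, ?_⟩
  let Φf : X.Modules → (Fin r → ℕ) → ℚ := fun N =>
    hilb k L N - ∑ ξ ∈ T, ((len N ξ).toNat : ℚ) • hilb k L (ClSub.quotMod (ptIdeal ξ))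
  let P : X.Modules → Prop := fun N => (∀ ξ ∈ T, len N ξ ≠ ⊤) ∧ Φf N ∈ polyFun r d
  have hP : ∀ M N : X.Modules, Nonempty (M ≅ N) → P M → P N := fun M N ⟨e⟩ ⟨h1, h2⟩ => by
    refine ⟨fun ξ hξ => len_congr e ξ ▸ h1 ξ hξ, ?_⟩
    have : Φf N = Φf M := by simp only [Φf, hilb, hilbFun_congr _ e, len_congr e]
    rwa [this]
  suffices P M from this.2
  refine devissage P hP Y (fun S hS h₁ h₂ h₃ _ => ?_) hne (fun η hη _ => ?_) hY M hM hMY
  · have hlen := fun ξ => len_add hS ξ
    have key : (∀ ξ ∈ T, len S.X₁ ξ ≠ ⊤) → (∀ ξ ∈ T, len S.X₃ ξ ≠ ⊤) → Φf S.X₂ = Φf S.X₁ + Φf S.X₃ := by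
      intro a c
      have e1 := hilbFun_add (k := k) (fun n => isInvertible_tensorPows r L hL n) hS h₁ h₂ h₃
      simp only [Φf, hilb]
      rw [e1, Finset.sum_congr rfl (g := fun ξ =>
        ((len S.X₁ ξ).toNat : ℚ) • hilb k L (ClSub.quotMod (ptIdeal ξ)) +
        ((len S.X₃ ξ).toNat : ℚ) • hilb k L (ClSub.quotMod (ptIdeal ξ))) fun ξ hξ => by
          rw [hlen ξ, ENat.toNat_add (a ξ hξ) (c ξ hξ), Nat.cast_add, add_smul],
        Finset.sum_add_distrib]
      abel
    have f1 : (∀ ξ ∈ T, len S.X₂ ξ ≠ ⊤) → ∀ ξ ∈ T, len S.X₁ ξ ≠ ⊤ := fun b ξ hξ =>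
      ne_top_of_le_ne_top (b ξ hξ) (hlen ξ ▸ le_self_add)
    have f3 : (∀ ξ ∈ T, len S.X₂ ξ ≠ ⊤) → ∀ ξ ∈ T, len S.X₃ ξ ≠ ⊤ := fun b ξ hξ =>
      ne_top_of_le_ne_top (b ξ hξ) (hlen ξ ▸ le_add_self)
    refine ⟨fun ⟨a, a'⟩ ⟨b, b'⟩ => ⟨f3 b, ?_⟩, fun ⟨a, a'⟩ ⟨c, c'⟩ => ⟨fun ξ hξ => ?_, ?_⟩,
      fun ⟨b, b'⟩ ⟨c, c'⟩ => ⟨f1 b, ?_⟩⟩
    · rw [key a (f3 b)] at b'
      simpa using sub_mem b' a'
    · rw [hlen ξ]
      exact WithTop.add_ne_top.mpr ⟨a ξ hξ, c ξ hξ⟩
    · rw [key a c]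
      exact add_mem a' c'
    · rw [key (f1 b) c] at b'
      simpa using sub_mem b' c'
  · obtain ⟨hG, hGs, he⟩ := generator η
    refine ⟨_, hG, hGs, he, ?_⟩
    have h0 : ∀ ξ ∈ T, ξ ≠ η → len (ClSub.quotMod (ptIdeal η)) ξ = 0 := fun ξ hξ hne' => by
      refine len_eq_zero fun h => hne' ?_
      rw [hGs] at h
      exact (eq_of_specializes_of_dim hY hd ((hT ξ).mp hξ).2 hη (specializes_iff_mem_closure.mpr h)).symm
    refine ⟨fun ξ hξ => ?_, ?_⟩
    · by_cases h : ξ = η
      · subst h; rw [len_generator]; exact ENat.one_ne_top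
      · rw [h0 ξ hξ h]; exact ENat.zero_ne_top
    · by_cases hηT : η ∈ T
      · simp only [Φf]
        rw [Finset.sum_eq_single η (fun ξ hξ hne' => by rw [h0 ξ hξ hne']; simp) (fun h => absurd hηT h),
          len_generator]
        simp
      · simp only [Φf]
        rw [Finset.sum_eq_zero fun ξ hξ => by rw [h0 ξ hξ (fun h => hηT (h ▸ hξ))]; simp, sub_zero]
        refine hilb_mem hL hG ?_
        rw [hGs]
        exact lt_of_le_of_ne (dim_closure_le hY hη hd) fun h => hηT ((hT η).mpr ⟨hη, h⟩)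


omit hL [IsProper (X ↘ Spec (CommRingCat.of k))] in
theorem cubeSum_succ {e : ℕ} (L' : Fin (e + 1) → X.Modules)
    (F : X.Modules) : cubeSum (hilb k L' F) =
      cubeSum (hilb k (fun j => L' j.succ) F) -
        cubeSum (hilb k (fun j => L' j.succ) (CohB1.tensorMod (L' 0) F)) := by
  rw [cubeSum_cons]
  congr 2
  · funext n
    obtain ⟨e₁⟩ := nonempty_tensorPows_cons_zero (Coh.structureModule X) e L' n
    simp only [hilb, hilbFun, CurvLib.euler_congr (congrLeft e₁ F)]
  · funext n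
    obtain ⟨e₁⟩ := nonempty_tensorPows_cons_zero (Coh.structureModule X) e L' n
    obtain ⟨e₂⟩ := nonempty_tensorPows_step (e + 1) L' (Fin.cons 0 n) 0
    rw [show Function.update (Fin.cons 0 n : Fin (e + 1) → ℕ) 0 ((Fin.cons 0 n : Fin (e + 1) → ℕ) 0 + 1) =
      Fin.cons 1 n from by rw [Fin.update_cons_zero]; rfl] at e₂
    simp only [hilb, hilbFun]
    rw [CurvLib.euler_congr (congrLeft (e₂ ≪≫ congrRight _ e₁) F ≪≫ assocIso _ _ _ ≪≫ leftComm _ _ _)]

end IntMultLib

end
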