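import Groth.Agent.IntMultLib.Components

/-!
# Tensor products with locally free modules in dimension one
-/

set_option autoImplicit false
set_option linter.style.haveILetI false
universe u

open CategoryTheory CategoryTheory.Limits AlgebraicGeometry

noncomputable section

namespace IntMultLib

/-- `χ(F ⊗ E)` as a sum over the one-dimensional components. -/
theorem euler_tensor_eq_sum (k : Type u) [Field k] (X : Scheme.{u}) [X.Over (Spec (CommRingCat.of k))]
    [IsProper (X ↘ (Spec (CommRingCat.of k)))] [IsNoetherian X] (hdim : topologicalKrullDim X ≤ 1)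
    (n : ℕ) (E : X.Modules) (hE : FlatMod.IsFinLocFreeOfRank n E) (F : X.Modules) (hF : Coh.IsCoh F) :
    Curv2.euler k X (CohB1.tensorMod F E) = (∑ᶠ Z : irreducibleComponents (X : Type u),
      (if topologicalKrullDim (Z.1 : Set X) = 1 then
        ((Module.length (X.presheaf.stalk Z.2.1.genericPoint) (F.presheaf.stalk Z.2.1.genericPoint)).toNat : ℤ) *
          @Curv2.deg k _ (X.irreducibleComponentIdeal Z.1 Z.2).radical.subscheme ⟨(X.irreducibleComponentIdeal Z.1 Z.2).radical.subschemeι ≫ (X ↘ (Spec (CommRingCat.of k)))⟩ ((Scheme.Modules.pullback (X.irreducibleComponentIdeal Z.1 Z.2).radical.subschemeι).obj E) n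
      else 0)) + (n : ℤ) * Curv2.euler k X F := by
  classical
  let Φ : X.Modules → ℤ := fun M => Curv2.euler k X (CohB1.tensorMod M E) - n * Curv2.euler k X M
  have hΦ : ∀ J : X.IdealSheafData, Φ (ClSub.quotMod J) =
      @Curv2.deg k _ J.subscheme ⟨J.subschemeι ≫ (X ↘ (Spec (CommRingCat.of k)))⟩
        ((Scheme.Modules.pullback J.subschemeι).obj E) n := fun J => by
    letI : J.subscheme.Over (Spec (CommRingCat.of k)) := ⟨J.subschemeι ≫ (X ↘ (Spec (CommRingCat.of k)))⟩
    have hE0 : FlatMod.IsFinLocFree E := CurveVBLib.isFinLocFree_of_rank hE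
    haveI := (CurvLib.isCoh_of_locFree (Groth.Agent.S7640.isFinLocFreeOfRank_pb J.subschemeι hE)).1
    haveI := (DevissLib.isCoh_structureModule J.subscheme).1
    have h1 := (PushLinLib.euler_push k J.subschemeι rfl ((Scheme.Modules.pullback J.subschemeι).obj E)).2
    have h2 := (PushLinLib.euler_push k J.subschemeι rfl (Coh.structureModule J.subscheme)).2
    let pr := @asIso _ _ _ _ (ProjFormLib.projApp J.subschemeι E (Coh.structureModule J.subscheme))
      (ProjFormLib.isIso_projApp J.subschemeι hE0 _)
    have h3 : Curv2.euler k X (CohB1.tensorMod (ClSub.quotMod J) E) =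
        Curv2.euler k X ((Coh.push J.subschemeι).obj ((Scheme.Modules.pullback J.subschemeι).obj E)) :=
      CurvLib.euler_congr (HilbPolyLib.swapIso _ _ ≪≫ pr ≪≫ (Coh.push J.subschemeι).mapIso
        (HilbPolyLib.swapIso _ _ ≪≫ HilbPolyLib.unitLeft _))
    simp only [Φ, Curv2.deg, h3, ← h1, h2]
  have hiso : ∀ M N : X.Modules, (M ≅ N) → Φ M = Φ N := fun M N e => by
    simp only [Φ, CurvLib.euler_congr e, CurvLib.euler_congr (HilbPolyLib.congrLeft e E)]
  have hadd : ∀ S : ShortComplex X.Modules, S.ShortExact → Coh.IsCoh S.X₁ → Coh.IsCoh S.X₂ →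
      Coh.IsCoh S.X₃ → Φ S.X₂ = Φ S.X₁ + Φ S.X₃ := fun S hS h₁ h₂ h₃ => by
    have a := CurvLib.euler_add_of_isCoh (k := k) hS h₁ h₂ h₃
    have hcoh : ∀ M, Coh.IsCoh M → Coh.IsCoh (CohB1.tensorMod E M) := fun M hM =>
      QCohLib.isCoh_of_iso (HilbPolyLib.swapIso M E) (IntMultLib.isCoh_tensor_locFree hE hM)
    have b := CurvLib.euler_add_of_isCoh (k := k) (CurvLib.shortExact_tensor_locFree hE hS)
      (hcoh _ h₁) (hcoh _ h₂) (hcoh _ h₃)
    have sw : ∀ M : X.Modules, Curv2.euler k X (CohB1.tensorMod E M) = Curv2.euler k X (CohB1.tensorMod M E) :=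
      fun M => CurvLib.euler_congr (HilbPolyLib.swapIso E M)
    change Curv2.euler k X (CohB1.tensorMod E S.X₂) = Curv2.euler k X (CohB1.tensorMod E S.X₁) +
      Curv2.euler k X (CohB1.tensorMod E S.X₃) at b
    rw [sw, sw, sw] at b
    simp only [Φ, a, b]
    ring
  have hlow : ∀ M : X.Modules, Coh.IsCoh M →
      topologicalKrullDim (CohB1.support M) < ((1 : ℕ) : WithBot ℕ∞) → Φ M = 0 := fun M hM h => by
    have h0 : topologicalKrullDim (CohB1.support M) ≤ 0 := by
      revert h
      generalize topologicalKrullDim (CohB1.support M) = t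
      intro ht
      induction t with
      | bot => exact bot_le
      | coe a =>
        induction a with
        | top => exact absurd ht (by simp)
        | coe m =>
          have ht' : m < 1 := by exact_mod_cast ht
          exact_mod_cast Nat.lt_one_iff.mp ht' |>.le
    simp only [Φ, CurvLib.euler_tensor_locFree_of_dim_zero hM h0 hE, sub_self]
  suffices key : Φ F = ∑ᶠ Z : irreducibleComponents (X : Type u),
      (if topologicalKrullDim (Z.1 : Set X) = 1 then
        ((Module.length (X.presheaf.stalk Z.2.1.genericPoint) (F.presheaf.stalk Z.2.1.genericPoint)).toNat : ℤ) *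
          @Curv2.deg k _ (X.irreducibleComponentIdeal Z.1 Z.2).radical.subscheme ⟨(X.irreducibleComponentIdeal Z.1 Z.2).radical.subschemeι ≫ (X ↘ (Spec (CommRingCat.of k)))⟩ ((Scheme.Modules.pullback (X.irreducibleComponentIdeal Z.1 Z.2).radical.subschemeι).obj E) n
      else 0) by
    rw [← key]
    simp [Φ]
  haveI : Finite (irreducibleComponents (X : Type u)) :=
    TopologicalSpace.NoetherianSpace.finite_irreducibleComponents.to_subtype
  haveI := Fintype.ofFinite (irreducibleComponents (X : Type u))
  rw [finsum_eq_sum_of_fintype, ← Finset.sum_filter]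
  rcases isEmpty_or_nonempty X with hX | hX
  · haveI : IsEmpty (irreducibleComponents (X : Type u)) := ⟨fun Z => hX.false Z.2.1.1.some⟩
    rw [Finset.univ_eq_empty, Finset.filter_empty, Finset.sum_empty]
    exact hlow _ hF (lt_of_le_of_lt (topologicalKrullDim_subspace_le _ _) (by
      haveI : IsEmpty (TopologicalSpace.IrreducibleCloseds X) := ⟨fun Z => hX.false Z.isIrreducible.1.some⟩
      simp [topologicalKrullDim, Order.krullDim_eq_bot]))
  obtain ⟨T, hT, hsum⟩ := IntMultLib.additive_eq_sum (k := k) Φ hiso hadd hlow isClosed_univ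
    Set.univ_nonempty (d := 1) ((topologicalKrullDim_subspace_le _ _).trans (by exact_mod_cast hdim))
    F hF (Set.subset_univ _)
  rw [hsum]
  symm
  refine Finset.sum_bij (fun Z _ => Z.2.1.genericPoint) (fun Z hZ => ?_) (fun Z₁ _ Z₂ _ h => ?_)
    (fun ξ hξ => ?_) (fun Z hZ => ?_)
  · refine (hT _).mpr ⟨trivial, ?_⟩
    rw [Z.2.1.isGenericPoint_genericPoint_closure.def,
      (isClosed_of_mem_irreducibleComponents _ Z.2).closure_eq]
    exact (Finset.mem_filter.mp hZ).2
  · have e := fun Z : irreducibleComponents (X : Type u) => Z.2.1.isGenericPoint_genericPoint_closure.def.trans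
      (isClosed_of_mem_irreducibleComponents _ Z.2).closure_eq
    exact Subtype.ext ((e Z₁).symm.trans ((congrArg (fun x => closure ({x} : Set X)) h).trans (e Z₂)))
  · obtain ⟨-, hξd⟩ := (hT ξ).mp hξ
    have hC : closure ({ξ} : Set X) ∈ irreducibleComponents (X : Type u) := by
      refine ⟨isIrreducible_singleton.closure, fun t ht hle => ?_⟩
      obtain ⟨η, hη⟩ := QuasiSober.sober ht.closure isClosed_closure
      have hsp : η ⤳ ξ := hη.specializes (subset_closure (hle (subset_closure rfl)))
      obtain rfl := IntMultLib.eq_of_specializes_of_dim isClosed_univ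
        ((topologicalKrullDim_subspace_le _ _).trans (by exact_mod_cast hdim)) hξd (Set.mem_univ η) hsp
      exact subset_closure.trans hη.def.ge
    refine ⟨⟨_, hC⟩, Finset.mem_filter.mpr ⟨Finset.mem_univ _, hξd⟩, ?_⟩
    have h1 : IsGenericPoint hC.1.genericPoint (closure ({ξ} : Set X)) := by
      have := hC.1.isGenericPoint_genericPoint_closure
      rwa [closure_closure] at this
    exact h1.eq isGenericPoint_closure
  · have hJ : (X.irreducibleComponentIdeal Z.1 Z.2).radical = IntMultLib.ptIdeal Z.2.1.genericPoint := by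
      rw [← Scheme.IdealSheafData.vanishingIdeal_support]
      refine congrArg _ (SetLike.coe_injective ?_)
      exact (Z.2.1.isGenericPoint_genericPoint_closure.def.trans
        (isClosed_of_mem_irreducibleComponents _ Z.2).closure_eq).symm
    rw [← hΦ, hJ, nsmul_eq_mul]

end IntMultLib

end
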